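import Cfsg.Agent.FGS4.OrderType.Small
import Mathlib.Data.Set.Finite.Basic
import Mathlib.GroupTheory.OrderOfElement
import Mathlib.NumberTheory.Divisors
import Mathlib.Algebra.Group.Pi.Basic
import Mathlib.Algebra.BigOperators.Ring.Finset

/-!
Counting the solutions of `x ^ n = 1`.
-/

set_option autoImplicit false

namespace Cfsg.Agent.FGS4.OrderType

/-- The divisors of 84. -/
def divs : List ℕ := [1, 2, 3, 4, 6, 7, 12, 14, 21, 28, 42, 84]

/-- `x ^ d` for `d` running through `divs`. -/
def pows {G : Type*} [Mul G] (x : G) : List G :=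
  let x2 := x * x
  let x3 := x2 * x
  let x4 := x2 * x2
  let x6 := x3 * x3
  let x7 := x6 * x
  let x12 := x6 * x6
  let x14 := x7 * x7
  let x21 := x14 * x7
  let x28 := x14 * x14
  let x42 := x21 * x21
  [x, x2, x3, x4, x6, x7, x12, x14, x21, x28, x42, x42 * x42]

theorem pows_eq {G : Type*} [Monoid G] (x : G) : pows x = divs.map (x ^ ·) := by
  simp only [pows, divs, List.map, pow_succ, pow_zero, one_mul, mul_assoc]

/-- For each `d` in `divs`, the number of listed elements with `x ^ d = 1`. -/
def profile {G : Type*} [Mul G] [One G] [DecidableEq G] (L : List G) : List ℕ :=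
  let rows := L.map fun x => (pows x).map fun y => decide (y = 1)
  (List.range 12).map fun i => rows.countP fun r => r.getD i false

/-- The number of solutions of `x ^ n = 1`. -/
noncomputable def kc (G : Type*) [Monoid G] (n : ℕ) : ℕ := Nat.card {x : G // x ^ n = 1}

theorem card_subtype_of_list {G : Type*} {L : List G} (hn : L.Nodup) (hm : ∀ x, x ∈ L)
    (p : G → Prop) [DecidablePred p] : Nat.card {x // p x} = L.countP (fun x => decide (p x)) := by
  classical
  rw [List.countP_eq_length_filter, ← List.toFinset_card_of_nodup (hn.filter _)]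
  exact Nat.subtype_card _ (fun x => by simp [hm])

theorem kc_of_profile {G : Type*} [Monoid G] [DecidableEq G] {L : List G} (hn : L.Nodup)
    (hm : ∀ x, x ∈ L) {f : List ℕ} (h : profile L = f) (i : ℕ) (hi : i < 12) :
    kc G (divs.getD i 0) = f.getD i 0 := by
  subst h
  rw [kc, card_subtype_of_list hn hm]
  simp only [profile, List.countP_map]
  simp only [List.getD_eq_getElem?_getD, List.getElem?_map, List.getElem?_range hi, Option.map_some,
    Option.getD_some]
  apply List.countP_congr
  intro x _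
  have hd : i < divs.length := hi
  simp [Function.comp_def, pows_eq, List.getElem?_eq_getElem hd]

theorem pow_top_of_profile {G : Type*} [Monoid G] [DecidableEq G] {L : List G} (hn : L.Nodup)
    (hm : ∀ x, x ∈ L) {f : List ℕ} (h : profile L = f) (hlast : f.getD 11 0 = L.length) (x : G) :
    x ^ 84 = 1 := by
  subst h
  have h1 := kc_of_profile hn hm rfl 11 (by omega)
  rw [hlast, kc, card_subtype_of_list hn hm] at h1
  exact of_decide_eq_true ((List.countP_eq_length.mp h1) x (hm x))

theorem kc_gcd {G : Type*} [Monoid G] (h : ∀ x : G, x ^ 84 = 1) (n : ℕ) :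
    kc G n = kc G (Nat.gcd n 84) := by
  refine Nat.card_congr (Equiv.subtypeEquivRight fun x => ⟨fun hx => pow_gcd_eq_one.mpr ⟨hx, h x⟩, fun hx => ?_⟩)
  obtain ⟨c, hc⟩ := Nat.gcd_dvd_left n 84
  rw [hc, pow_mul, hx, one_pow]

theorem gcd_eq_divs (n : ℕ) : ∃ i < 12, Nat.gcd n 84 = divs.getD i 0 := by
  have h : Nat.gcd n 84 ∈ Nat.divisors 84 :=
    Nat.mem_divisors.mpr ⟨Nat.gcd_dvd_right n 84, by norm_num⟩
  have h' : ∀ d ∈ Nat.divisors 84, ∃ i < 12, d = divs.getD i 0 := by decide +kernel
  exact h' _ h

theorem kc_pi {ι : Type*} [Fintype ι] (G : ι → Type*) [∀ i, Monoid (G i)] (n : ℕ) :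
    kc (∀ i, G i) n = ∏ i, kc (G i) n := by
  simp only [kc]
  rw [← Nat.card_pi]
  refine Nat.card_congr
    { toFun := fun x i => ⟨x.1 i, congr_fun x.2 i⟩
      invFun := fun y => ⟨fun i => (y i).1, funext fun i => (y i).2⟩
      left_inv := fun x => rfl
      right_inv := fun y => rfl }

theorem kc_prod (G H : Type*) [Monoid G] [Monoid H] (n : ℕ) :
    kc (G × H) n = kc G n * kc H n := by
  simp only [kc]
  rw [← Nat.card_prod]
  refine Nat.card_congr
    { toFun := fun x => (⟨x.1.1, congrArg Prod.fst x.2⟩, ⟨x.1.2, congrArg Prod.snd x.2⟩)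
      invFun := fun y => ⟨(y.1.1, y.2.1), Prod.ext y.1.2 y.2.2⟩
      left_inv := fun x => rfl
      right_inv := fun y => rfl }

end Cfsg.Agent.FGS4.OrderType
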