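import Cfsg.Agent.FGS4.OrderType.Counts

/-! The data of the solvable factors. -/

set_option autoImplicit false

namespace Cfsg.Agent.FGS4.OrderType

set_option maxRecDepth 100000

def g0 : Good where
  d := ⟨0, 1, 0, 0, 0, 0,
    [((0, 0, 0), (0, 1, 0), (0, 0, 0))]⟩
  ok := by decide +kernel

theorem profile_g0 : profile (elems g0) = [1, 2, 1, 2, 2, 1, 2, 2, 1, 2, 2, 2] := by
  decide +kernel

def g1 : Good where
  d := ⟨0, 3, 0, 0, 0, 0,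
    [((0, 0, 0), (0, 1, 0), (0, 0, 0))]⟩
  ok := by decide +kernel

theorem profile_g1 : profile (elems g1) = [1, 2, 1, 4, 2, 1, 4, 2, 1, 4, 2, 4] := by
  decide +kernel

def g2 : Good where
  d := ⟨0, 2, 0, 1, 0, 1,
    [((0, 0, 0), (0, 1, 0), (0, 0, 0)),
     ((0, 0, 0), (0, 2, 0), (0, 0, 0))]⟩
  ok := by decide +kernel

theorem profile_g2 : profile (elems g2) = [1, 4, 3, 4, 6, 1, 6, 4, 3, 4, 6, 6] := by
  decide +kernel

def g3 : Good where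
  d := ⟨0, 6, 0, 0, 0, 0,
    [((0, 0, 0), (0, 1, 0), (0, 0, 0))]⟩
  ok := by decide +kernel

theorem profile_g3 : profile (elems g3) = [1, 1, 1, 1, 1, 7, 1, 7, 7, 7, 7, 7] := by
  decide +kernel

def g4 : Good where
  d := ⟨0, 3, 0, 1, 0, 1,
    [((0, 0, 0), (0, 1, 0), (0, 0, 0)),
     ((0, 0, 0), (0, 3, 0), (0, 0, 0))]⟩
  ok := by decide +kernel

theorem profile_g4 : profile (elems g4) = [1, 6, 1, 8, 6, 1, 8, 6, 1, 8, 6, 8] := by
  decide +kernel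

def g5 : Good where
  d := ⟨0, 6, 0, 1, 0, 1,
    [((0, 0, 0), (0, 1, 0), (0, 0, 0)),
     ((0, 0, 0), (0, 6, 0), (0, 0, 0))]⟩
  ok := by decide +kernel

theorem profile_g5 : profile (elems g5) = [1, 8, 1, 8, 8, 7, 8, 14, 7, 14, 14, 14] := by
  decide +kernel

def g6 : Good where
  d := ⟨2, 2, 0, 1, 0, 1,
    [((1, 0, 0), (0, 1, 0), (0, 0, 0)),
     ((2, 0, 0), (0, 2, 0), (0, 0, 0))]⟩
  ok := by decide +kernel

theorem profile_g6 : profile (elems g6) = [1, 10, 9, 10, 18, 1, 18, 10, 9, 10, 18, 18] := by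
  decide +kernel

def g7 : Good where
  d := ⟨0, 6, 0, 2, 0, 1,
    [((0, 0, 0), (0, 1, 0), (0, 0, 0)),
     ((0, 0, 0), (0, 2, 0), (0, 0, 0)),
     ((0, 0, 0), (0, 4, 0), (0, 0, 0))]⟩
  ok := by decide +kernel

theorem profile_g7 : profile (elems g7) = [1, 1, 15, 1, 15, 7, 15, 7, 21, 7, 21, 21] := by
  decide +kernel

def g8 : Good where
  d := ⟨1, 5, 0, 1, 0, 1,
    [((1, 0, 0), (0, 1, 0), (0, 0, 0)),
     ((1, 0, 0), (3, 5, 0), (0, 0, 0))]⟩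
  ok := by decide +kernel

theorem profile_g8 : profile (elems g8) = [1, 10, 3, 16, 18, 1, 24, 10, 3, 16, 18, 24] := by
  decide +kernel

def g9 : Good where
  d := ⟨0, 6, 0, 3, 0, 1,
    [((0, 0, 0), (0, 1, 0), (0, 0, 0)),
     ((0, 0, 0), (0, 6, 0), (0, 0, 0)),
     ((0, 0, 0), (0, 1, 0), (0, 0, 0)),
     ((0, 0, 0), (0, 6, 0), (0, 0, 0))]⟩
  ok := by decide +kernel

theorem profile_g9 : profile (elems g9) = [1, 2, 1, 16, 2, 7, 16, 14, 7, 28, 14, 28] := by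
  decide +kernel

def g10 : Good where
  d := ⟨2, 2, 0, 3, 0, 1,
    [((1, 0, 0), (0, 1, 0), (0, 0, 0)),
     ((2, 0, 0), (0, 2, 0), (0, 0, 0)),
     ((1, 0, 0), (0, 1, 0), (0, 0, 0)),
     ((2, 0, 0), (0, 2, 0), (0, 0, 0))]⟩
  ok := by decide +kernel

theorem profile_g10 : profile (elems g10) = [1, 2, 9, 20, 18, 1, 36, 2, 9, 20, 18, 36] := by
  decide +kernel

def g11 : Good where
  d := ⟨0, 20, 0, 1, 0, 1,
    [((0, 0, 0), (0, 1, 0), (0, 0, 0)),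
     ((0, 0, 0), (0, 20, 0), (0, 0, 0))]⟩
  ok := by decide +kernel

theorem profile_g11 : profile (elems g11) = [1, 22, 3, 22, 24, 7, 24, 28, 21, 28, 42, 42] := by
  decide +kernel

def g12 : Good where
  d := ⟨0, 6, 0, 5, 0, 1,
    [((0, 0, 0), (0, 1, 0), (0, 0, 0)),
     ((0, 0, 0), (0, 3, 0), (0, 0, 0)),
     ((0, 0, 0), (0, 2, 0), (0, 0, 0)),
     ((0, 0, 0), (0, 6, 0), (0, 0, 0)),
     ((0, 0, 0), (0, 4, 0), (0, 0, 0)),
     ((0, 0, 0), (0, 5, 0), (0, 0, 0))]⟩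
  ok := by decide +kernel

theorem profile_g12 : profile (elems g12) = [1, 8, 15, 8, 36, 7, 36, 14, 21, 14, 42, 42] := by
  decide +kernel

def g13 : Good where
  d := ⟨0, 27, 0, 1, 0, 1,
    [((0, 0, 0), (0, 1, 0), (0, 0, 0)),
     ((0, 0, 0), (0, 27, 0), (0, 0, 0))]⟩
  ok := by decide +kernel

theorem profile_g13 : profile (elems g13) = [1, 30, 1, 32, 30, 7, 32, 42, 7, 56, 42, 56] := by
  decide +kernel

def g14 : Good where
  d := ⟨1, 13, 0, 1, 0, 1,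
    [((1, 0, 0), (0, 1, 0), (0, 0, 0)),
     ((1, 0, 0), (7, 13, 0), (0, 0, 0))]⟩
  ok := by decide +kernel

theorem profile_g14 : profile (elems g14) = [1, 18, 1, 32, 18, 7, 32, 42, 7, 56, 42, 56] := by
  decide +kernel

def g15 : Good where
  d := ⟨5, 5, 0, 1, 0, 1,
    [((1, 0, 0), (0, 1, 0), (0, 0, 0)),
     ((2, 3, 0), (3, 2, 0), (0, 0, 0))]⟩
  ok := by decide +kernel

theorem profile_g15 : profile (elems g15) = [1, 22, 9, 40, 54, 1, 72, 22, 9, 40, 54, 72] := by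
  decide +kernel

def g16 : Good where
  d := ⟨0, 6, 0, 11, 0, 1,
    [((0, 0, 0), (0, 1, 0), (0, 0, 0)),
     ((0, 0, 0), (0, 3, 0), (0, 0, 0)),
     ((0, 0, 0), (0, 2, 0), (0, 0, 0)),
     ((0, 0, 0), (0, 6, 0), (0, 0, 0)),
     ((0, 0, 0), (0, 4, 0), (0, 0, 0)),
     ((0, 0, 0), (0, 5, 0), (0, 0, 0)),
     ((0, 0, 0), (0, 1, 0), (0, 0, 0)),
     ((0, 0, 0), (0, 3, 0), (0, 0, 0)),
     ((0, 0, 0), (0, 2, 0), (0, 0, 0)),
     ((0, 0, 0), (0, 6, 0), (0, 0, 0)),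
     ((0, 0, 0), (0, 4, 0), (0, 0, 0)),
     ((0, 0, 0), (0, 5, 0), (0, 0, 0))]⟩
  ok := by decide +kernel

theorem profile_g16 : profile (elems g16) = [1, 2, 15, 16, 30, 7, 72, 14, 21, 28, 42, 84] := by
  decide +kernel

def g17 : Good where
  d := ⟨6, 6, 0, 1, 0, 1,
    [((1, 0, 0), (0, 1, 0), (0, 0, 0)),
     ((6, 0, 0), (0, 6, 0), (0, 0, 0))]⟩
  ok := by decide +kernel

theorem profile_g17 : profile (elems g17) = [1, 50, 1, 50, 50, 49, 50, 98, 49, 98, 98, 98] := by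
  decide +kernel

def g18 : Good where
  d := ⟨2, 20, 0, 1, 0, 1,
    [((1, 0, 0), (0, 1, 0), (0, 0, 0)),
     ((2, 0, 0), (0, 20, 0), (0, 0, 0))]⟩
  ok := by decide +kernel

theorem profile_g18 : profile (elems g18) = [1, 64, 9, 64, 72, 7, 72, 70, 63, 70, 126, 126] := by
  decide +kernel

def g19 : Good where
  d := ⟨6, 6, 0, 2, 0, 1,
    [((1, 0, 0), (0, 1, 0), (0, 0, 0)),
     ((0, 1, 0), (6, 6, 0), (0, 0, 0)),
     ((6, 6, 0), (1, 0, 0), (0, 0, 0))]⟩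
  ok := by decide +kernel

theorem profile_g19 : profile (elems g19) = [1, 1, 99, 1, 99, 49, 99, 49, 147, 49, 147, 147] := by
  decide +kernel

def g20 : Good where
  d := ⟨1, 1, 1, 6, 2, 2,
    [((1, 0, 0), (0, 1, 0), (0, 0, 1)),
     ((0, 1, 0), (1, 1, 0), (0, 0, 1)),
     ((1, 1, 0), (1, 0, 0), (0, 0, 1)),
     ((1, 1, 1), (1, 1, 0), (0, 1, 1)),
     ((1, 0, 1), (1, 0, 0), (1, 1, 1)),
     ((0, 1, 1), (0, 1, 0), (1, 0, 1)),
     ((0, 1, 0), (0, 0, 1), (1, 0, 1)),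
     ((1, 1, 0), (0, 0, 1), (0, 1, 1)),
     ((1, 0, 0), (0, 0, 1), (1, 1, 1)),
     ((1, 1, 0), (0, 1, 1), (1, 0, 0)),
     ((1, 0, 0), (1, 1, 1), (0, 1, 0)),
     ((0, 1, 0), (1, 0, 1), (1, 1, 0)),
     ((0, 0, 1), (1, 0, 1), (1, 1, 1)),
     ((0, 0, 1), (0, 1, 1), (1, 0, 1)),
     ((0, 0, 1), (1, 1, 1), (0, 1, 1)),
     ((0, 1, 1), (1, 0, 0), (0, 1, 0)),
     ((1, 1, 1), (0, 1, 0), (1, 1, 0)),
     ((1, 0, 1), (1, 1, 0), (1, 0, 0)),
     ((1, 0, 1), (1, 1, 1), (1, 1, 0)),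
     ((0, 1, 1), (1, 0, 1), (1, 0, 0)),
     ((1, 1, 1), (0, 1, 1), (0, 1, 0))]⟩
  ok := by decide +kernel

theorem profile_g20 : profile (elems g20) = [1, 8, 57, 8, 120, 49, 120, 56, 105, 56, 168, 168] := by
  decide +kernel

def g21 : Good where
  d := ⟨2, 20, 0, 3, 0, 1,
    [((1, 0, 0), (0, 1, 0), (0, 0, 0)),
     ((2, 0, 0), (0, 20, 0), (0, 0, 0)),
     ((1, 0, 0), (0, 1, 0), (0, 0, 0)),
     ((2, 0, 0), (0, 20, 0), (0, 0, 0))]⟩
  ok := by decide +kernel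

theorem profile_g21 : profile (elems g21) = [1, 2, 9, 128, 18, 7, 144, 14, 63, 140, 126, 252] := by
  decide +kernel

def g22 : Good where
  d := ⟨6, 6, 0, 5, 0, 1,
    [((1, 0, 0), (0, 1, 0), (0, 0, 0)),
     ((0, 1, 0), (3, 2, 0), (0, 0, 0)),
     ((3, 2, 0), (6, 0, 0), (0, 0, 0)),
     ((6, 0, 0), (0, 6, 0), (0, 0, 0)),
     ((0, 6, 0), (4, 5, 0), (0, 0, 0)),
     ((4, 5, 0), (1, 0, 0), (0, 0, 0))]⟩
  ok := by decide +kernel

theorem profile_g22 : profile (elems g22) = [1, 50, 15, 50, 162, 49, 162, 98, 147, 98, 294, 294] := by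
  decide +kernel

def g23 : Good where
  d := ⟨6, 6, 0, 2, 1, 2,
    [((1, 0, 0), (0, 1, 0), (0, 0, 0)),
     ((1, 2, 0), (0, 6, 0), (0, 0, 0)),
     ((0, 2, 0), (3, 6, 0), (0, 0, 0)),
     ((0, 5, 0), (3, 0, 0), (0, 0, 0)),
     ((6, 5, 0), (4, 0, 0), (0, 0, 0)),
     ((6, 0, 0), (4, 1, 0), (0, 0, 0))]⟩
  ok := by decide +kernel

theorem profile_g23 : profile (elems g23) = [1, 22, 99, 22, 120, 49, 120, 196, 147, 196, 294, 294] := by
  decide +kernel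

def g24 : Good where
  d := ⟨5, 13, 0, 1, 1, 1,
    [((1, 0, 0), (0, 1, 0), (0, 0, 0)),
     ((5, 0, 0), (7, 1, 0), (0, 0, 0)),
     ((5, 0, 0), (0, 13, 0), (0, 0, 0)),
     ((1, 0, 0), (7, 13, 0), (0, 0, 0))]⟩
  ok := by decide +kernel

theorem profile_g24 : profile (elems g24) = [1, 108, 3, 128, 144, 7, 192, 168, 21, 224, 252, 336] := by
  decide +kernel

def g25 : Good where
  d := ⟨6, 27, 0, 1, 0, 1,
    [((1, 0, 0), (0, 1, 0), (0, 0, 0)),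
     ((6, 0, 0), (0, 27, 0), (0, 0, 0))]⟩
  ok := by decide +kernel

theorem profile_g25 : profile (elems g25) = [1, 198, 1, 200, 198, 49, 200, 294, 49, 392, 294, 392] := by
  decide +kernel

def g26 : Good where
  d := ⟨6, 6, 0, 3, 1, 3,
    [((1, 0, 0), (0, 1, 0), (0, 0, 0)),
     ((6, 0, 0), (0, 1, 0), (0, 0, 0)),
     ((0, 5, 0), (4, 0, 0), (0, 0, 0)),
     ((0, 5, 0), (3, 0, 0), (0, 0, 0)),
     ((6, 0, 0), (0, 6, 0), (0, 0, 0)),
     ((1, 0, 0), (0, 6, 0), (0, 0, 0)),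
     ((0, 2, 0), (3, 0, 0), (0, 0, 0)),
     ((0, 2, 0), (4, 0, 0), (0, 0, 0))]⟩
  ok := by decide +kernel

theorem profile_g26 : profile (elems g26) = [1, 78, 1, 176, 78, 49, 176, 294, 49, 392, 294, 392] := by
  decide +kernel

def g27 : Good where
  d := ⟨13, 5, 2, 1, 0, 1,
    [((1, 0, 0), (0, 1, 0), (0, 0, 1)),
     ((13, 0, 0), (3, 5, 0), (0, 0, 2))]⟩
  ok := by decide +kernel

theorem profile_g27 : profile (elems g27) = [1, 130, 9, 256, 162, 7, 288, 154, 63, 280, 378, 504] := by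
  decide +kernel

/-- Group, multiplicity, profile. -/
def posFactors : List (Good × ℕ × List ℕ) :=
  [(g1, 39, [1, 2, 1, 4, 2, 1, 4, 2, 1, 4, 2, 4]),
   (g2, 24, [1, 4, 3, 4, 6, 1, 6, 4, 3, 4, 6, 6]),
   (g5, 51, [1, 8, 1, 8, 8, 7, 8, 14, 7, 14, 14, 14]),
   (g6, 18, [1, 10, 9, 10, 18, 1, 18, 10, 9, 10, 18, 18]),
   (g7, 10, [1, 1, 15, 1, 15, 7, 15, 7, 21, 7, 21, 21]),
   (g8, 30, [1, 10, 3, 16, 18, 1, 24, 10, 3, 16, 18, 24]),
   (g13, 42, [1, 30, 1, 32, 30, 7, 32, 42, 7, 56, 42, 56]),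
   (g15, 30, [1, 22, 9, 40, 54, 1, 72, 22, 9, 40, 54, 72]),
   (g20, 30, [1, 8, 57, 8, 120, 49, 120, 56, 105, 56, 168, 168]),
   (g21, 48, [1, 2, 9, 128, 18, 7, 144, 14, 63, 140, 126, 252]),
   (g22, 20, [1, 50, 15, 50, 162, 49, 162, 98, 147, 98, 294, 294]),
   (g23, 30, [1, 22, 99, 22, 120, 49, 120, 196, 147, 196, 294, 294]),
   (g24, 6, [1, 108, 3, 128, 144, 7, 192, 168, 21, 224, 252, 336]),
   (g25, 30, [1, 198, 1, 200, 198, 49, 200, 294, 49, 392, 294, 392]),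
   (g26, 30, [1, 78, 1, 176, 78, 49, 176, 294, 49, 392, 294, 392])]

theorem posFactors_spec : ∀ p ∈ posFactors, profile (elems p.1) = p.2.2 := by
  simp only [posFactors, List.forall_mem_cons, List.not_mem_nil, false_implies, implies_true, and_true]
  exact ⟨profile_g1, profile_g2, profile_g5, profile_g6, profile_g7, profile_g8, profile_g13, profile_g15, profile_g20, profile_g21, profile_g22, profile_g23, profile_g24, profile_g25, profile_g26⟩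

/-- Group, multiplicity, profile. -/
def negFactors : List (Good × ℕ × List ℕ) :=
  [(g0, 93, [1, 2, 1, 2, 2, 1, 2, 2, 1, 2, 2, 2]),
   (g3, 10, [1, 1, 1, 1, 1, 7, 1, 7, 7, 7, 7, 7]),
   (g4, 66, [1, 6, 1, 8, 6, 1, 8, 6, 1, 8, 6, 8]),
   (g9, 27, [1, 2, 1, 16, 2, 7, 16, 14, 7, 28, 14, 28]),
   (g10, 48, [1, 2, 9, 20, 18, 1, 36, 2, 9, 20, 18, 36]),
   (g11, 60, [1, 22, 3, 22, 24, 7, 24, 28, 21, 28, 42, 42]),
   (g12, 18, [1, 8, 15, 8, 36, 7, 36, 14, 21, 14, 42, 42]),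
   (g14, 42, [1, 18, 1, 32, 18, 7, 32, 42, 7, 56, 42, 56]),
   (g16, 12, [1, 2, 15, 16, 30, 7, 72, 14, 21, 28, 42, 84]),
   (g17, 50, [1, 50, 1, 50, 50, 49, 50, 98, 49, 98, 98, 98]),
   (g18, 18, [1, 64, 9, 64, 72, 7, 72, 70, 63, 70, 126, 126]),
   (g19, 30, [1, 1, 99, 1, 99, 49, 99, 49, 147, 49, 147, 147]),
   (g27, 30, [1, 130, 9, 256, 162, 7, 288, 154, 63, 280, 378, 504])]

theorem negFactors_spec : ∀ p ∈ negFactors, profile (elems p.1) = p.2.2 := by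
  simp only [negFactors, List.forall_mem_cons, List.not_mem_nil, false_implies, implies_true, and_true]
  exact ⟨profile_g0, profile_g3, profile_g4, profile_g9, profile_g10, profile_g11, profile_g12, profile_g14, profile_g16, profile_g17, profile_g18, profile_g19, profile_g27⟩

end Cfsg.Agent.FGS4.OrderType
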