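import Cfsg.Agent.FGS4.OrderType.Counts
import Mathlib.Tactic.Ring

/-!
A model of `SL(3,2)` for kernel computation.
-/

set_option autoImplicit false

namespace Cfsg.Agent.FGS4.OrderType

/-- A `3 × 3` matrix over `ZMod 2`, by its entries. -/
@[ext]
structure M3 where
  a : ZMod 2
  b : ZMod 2
  c : ZMod 2
  d : ZMod 2
  e : ZMod 2
  f : ZMod 2
  g : ZMod 2
  h : ZMod 2
  i : ZMod 2
  deriving DecidableEq

namespace M3

def mul (u v : M3) : M3 :=
  ⟨u.a * v.a + u.b * v.d + u.c * v.g, u.a * v.b + u.b * v.e + u.c * v.h, u.a * v.c + u.b * v.f + u.c * v.i,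
   u.d * v.a + u.e * v.d + u.f * v.g, u.d * v.b + u.e * v.e + u.f * v.h, u.d * v.c + u.e * v.f + u.f * v.i,
   u.g * v.a + u.h * v.d + u.i * v.g, u.g * v.b + u.h * v.e + u.i * v.h, u.g * v.c + u.h * v.f + u.i * v.i⟩

def det (u : M3) : ZMod 2 :=
  u.a * (u.e * u.i - u.f * u.h) - u.b * (u.d * u.i - u.f * u.g) + u.c * (u.d * u.h - u.e * u.g)

def adj (u : M3) : M3 :=
  ⟨u.e * u.i - u.f * u.h, u.c * u.h - u.b * u.i, u.b * u.f - u.c * u.e,
   u.f * u.g - u.d * u.i, u.a * u.i - u.c * u.g, u.c * u.d - u.a * u.f,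
   u.d * u.h - u.e * u.g, u.b * u.g - u.a * u.h, u.a * u.e - u.b * u.d⟩

theorem det_mul (u v : M3) : (mul u v).det = u.det * v.det := by simp only [mul, det]; ring

theorem det_adj (u : M3) : (adj u).det = u.det * u.det := by simp only [adj, det]; ring

end M3

/-- The group `SL(3,2)`. -/
def SL32 : Type := {u : M3 // u.det = 1}

namespace SL32

instance instDecidableEqSL32 : DecidableEq SL32 := Subtype.instDecidableEq
instance instMulSL32 : Mul SL32 :=
  ⟨fun u v => ⟨M3.mul u.1 v.1, by rw [M3.det_mul, u.2, v.2, mul_one]⟩⟩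
instance instOneSL32 : One SL32 := ⟨⟨⟨1, 0, 0, 0, 1, 0, 0, 0, 1⟩, by decide⟩⟩
instance instInvSL32 : Inv SL32 := ⟨fun u => ⟨M3.adj u.1, by rw [M3.det_adj, u.2, mul_one]⟩⟩

theorem assoc' (u v w : SL32) : u * v * w = u * (v * w) := by
  refine Subtype.ext ?_
  change M3.mul (M3.mul u.1 v.1) w.1 = M3.mul u.1 (M3.mul v.1 w.1)
  ext <;> simp only [M3.mul] <;> ring

theorem one_mul' (u : SL32) : 1 * u = u := by
  refine Subtype.ext ?_
  change M3.mul ⟨1, 0, 0, 0, 1, 0, 0, 0, 1⟩ u.1 = u.1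
  ext <;> simp only [M3.mul] <;> ring

theorem inv_mul' (u : SL32) : u⁻¹ * u = 1 := by
  refine Subtype.ext ?_
  have h := u.2
  change M3.mul (M3.adj u.1) u.1 = ⟨1, 0, 0, 0, 1, 0, 0, 0, 1⟩
  simp only [M3.det] at h
  ext <;> simp only [M3.mul, M3.adj] <;> first | (linear_combination h) | ring

instance instGroupSL32 : Group SL32 := Group.ofLeftAxioms assoc' one_mul' inv_mul'

instance instFiniteSL32 : Finite SL32 :=
  Finite.of_injective
    (fun u : SL32 => (u.1.a, u.1.b, u.1.c, u.1.d, u.1.e, u.1.f, u.1.g, u.1.h, u.1.i))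
    (fun u v h => by
      simp only [Prod.mk.injEq] at h
      refine Subtype.ext ?_
      obtain ⟨h1, h2, h3, h4, h5, h6, h7, h8, h9⟩ := h
      exact M3.ext h1 h2 h3 h4 h5 h6 h7 h8 h9)

def zs : List (ZMod 2) := [0, 1]

/-- All elements. -/
def elems : List SL32 :=
  (zs.flatMap fun a => zs.flatMap fun b => zs.flatMap fun c => zs.flatMap fun d => zs.flatMap fun e =>
    zs.flatMap fun f => zs.flatMap fun g => zs.flatMap fun h => zs.map fun i =>
      (⟨a, b, c, d, e, f, g, h, i⟩ : M3)).filterMap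
    fun u => if hu : u.det = 1 then some ⟨u, hu⟩ else none

theorem mem_zs : ∀ x : ZMod 2, x ∈ zs := by decide

theorem mem_elems (u : SL32) : u ∈ elems := by
  simp only [elems, List.mem_filterMap, List.mem_flatMap, List.mem_map]
  refine ⟨u.1, ⟨_, mem_zs u.1.a, _, mem_zs u.1.b, _, mem_zs u.1.c, _, mem_zs u.1.d, _, mem_zs u.1.e,
    _, mem_zs u.1.f, _, mem_zs u.1.g, _, mem_zs u.1.h, _, mem_zs u.1.i, rfl⟩, ?_⟩
  rw [dif_pos u.2]
  rfl

set_option maxRecDepth 100000 in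
theorem nodup_elems : elems.Nodup := by decide +kernel

set_option maxRecDepth 100000 in
theorem profile_elems : profile elems = [1, 22, 57, 64, 78, 49, 120, 70, 105, 112, 126, 168] := by
  decide +kernel

set_option maxRecDepth 100000 in
theorem length_elems : elems.length = 168 := by decide +kernel

theorem not_isSolvable : ¬ Group.IsSolvable SL32 := by
  let t : Fin 6 → SL32 := ![
    ⟨⟨1, 1, 0, 0, 1, 0, 0, 0, 1⟩, by decide⟩, ⟨⟨1, 0, 1, 0, 1, 0, 0, 0, 1⟩, by decide⟩,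
    ⟨⟨1, 0, 0, 1, 1, 0, 0, 0, 1⟩, by decide⟩, ⟨⟨1, 0, 0, 0, 1, 1, 0, 0, 1⟩, by decide⟩,
    ⟨⟨1, 0, 0, 0, 1, 0, 1, 0, 1⟩, by decide⟩, ⟨⟨1, 0, 0, 0, 1, 0, 0, 1, 1⟩, by decide⟩]
  have hc : ∀ i, ∃ j k, t j * t k * (t j)⁻¹ * (t k)⁻¹ = t i := by decide +kernel
  have hmem : ∀ n i, t i ∈ derivedSeries SL32 n := by
    intro n
    induction n with
    | zero => intro i; rw [derivedSeries_zero]; trivial
    | succ n ih =>
      intro i
      obtain ⟨j, k, h⟩ := hc i
      rw [← h, derivedSeries_succ]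
      exact Subgroup.commutator_mem_commutator (ih j) (ih k)
  intro h
  obtain ⟨n, hn⟩ := h.solvable
  have := hmem n 0
  rw [hn, Subgroup.mem_bot] at this
  exact absurd this (by decide +kernel)

end SL32

end Cfsg.Agent.FGS4.OrderType
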