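import Mathlib.Algebra.Group.MinimalAxioms
import Mathlib.GroupTheory.Solvable
import Mathlib.Data.ZMod.Basic
import Mathlib.Data.List.FinRange
import Mathlib.SetTheory.Cardinal.Finite
import Mathlib.Tactic.Ring
import Mathlib.Tactic.LinearCombination

/-!
Small groups `(Z/a × Z/b × Z/c) ⋊ (Z/m ⋊ Z/l)` given by a table of matrices, in a form
suitable for counting the solutions of `x ^ n = 1` by kernel computation.
-/

set_option autoImplicit false

namespace Cfsg.Agent.FGS4.OrderType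

abbrev Row := ℕ × ℕ × ℕ
abbrev Mat3 := Row × Row × Row

/-- Raw data: moduli minus one, the twist `r` and the table of matrices. -/
structure Dat where
  a : ℕ
  b : ℕ
  c : ℕ
  m : ℕ
  l : ℕ
  r : ℕ
  tab : List Mat3

namespace Dat

def mat (d : Dat) (k j : ℕ) : Mat3 :=
  d.tab.getD (k * (d.l + 1) + j) ((0, 0, 0), (0, 0, 0), (0, 0, 0))

def rowOK (d : Dat) (E : ℕ) (q : Row) : Bool :=
  q.1 * (d.a + 1) % E == 0 && q.2.1 * (d.b + 1) % E == 0 && q.2.2 * (d.c + 1) % E == 0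

def comp (A : Row) (B : Mat3) : Row :=
  (A.1 * B.1.1 + A.2.1 * B.2.1.1 + A.2.2 * B.2.2.1,
   A.1 * B.1.2.1 + A.2.1 * B.2.1.2.1 + A.2.2 * B.2.2.2.1,
   A.1 * B.1.2.2 + A.2.1 * B.2.1.2.2 + A.2.2 * B.2.2.2.2)

def rowEq (E : ℕ) (u v : Row) : Bool :=
  u.1 % E == v.1 % E && u.2.1 % E == v.2.1 % E && u.2.2 % E == v.2.2 % E

def valid (d : Dat) : Bool :=
  d.r ^ (d.l + 1) % (d.m + 1) == 1 % (d.m + 1) &&
  rowEq (d.a + 1) (d.mat 0 0).1 (1, 0, 0) && rowEq (d.b + 1) (d.mat 0 0).2.1 (0, 1, 0) &&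
  rowEq (d.c + 1) (d.mat 0 0).2.2 (0, 0, 1) &&
  (List.range (d.m + 1)).all fun k => (List.range (d.l + 1)).all fun j =>
    d.rowOK (d.a + 1) (d.mat k j).1 && d.rowOK (d.b + 1) (d.mat k j).2.1 &&
    d.rowOK (d.c + 1) (d.mat k j).2.2 &&
    (List.range (d.m + 1)).all fun k' => (List.range (d.l + 1)).all fun j' =>
      let B := d.mat k' j'
      let C := d.mat ((k + d.r ^ j * k') % (d.m + 1)) ((j + j') % (d.l + 1))
      rowEq (d.a + 1) (comp (d.mat k j).1 B) C.1 &&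
      rowEq (d.b + 1) (comp (d.mat k j).2.1 B) C.2.1 &&
      rowEq (d.c + 1) (comp (d.mat k j).2.2 B) C.2.2

end Dat

/-- Data with a validity certificate. -/
structure Good where
  d : Dat
  ok : d.valid = true

/-- The elements of the group. -/
@[ext]
structure El (g : Good) where
  x : Fin (g.d.a + 1)
  y : Fin (g.d.b + 1)
  z : Fin (g.d.c + 1)
  k : Fin (g.d.m + 1)
  j : Fin (g.d.l + 1)
  deriving DecidableEq

/-- The product of two elements. -/
def gmul {g : Good} (u v : El g) : El g :=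
  let A := g.d.mat u.k.val u.j.val
  { x := Fin.ofNat _ (u.x.val + A.1.1 * v.x.val + A.1.2.1 * v.y.val + A.1.2.2 * v.z.val)
    y := Fin.ofNat _ (u.y.val + A.2.1.1 * v.x.val + A.2.1.2.1 * v.y.val + A.2.1.2.2 * v.z.val)
    z := Fin.ofNat _ (u.z.val + A.2.2.1 * v.x.val + A.2.2.2.1 * v.y.val + A.2.2.2.2 * v.z.val)
    k := Fin.ofNat _ (u.k.val + g.d.r ^ u.j.val * v.k.val)
    j := Fin.ofNat _ (u.j.val + v.j.val) }

def gone (g : Good) : El g := ⟨0, 0, 0, 0, 0⟩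

def ginv {g : Good} (u : El g) : El g :=
  let j' := (g.d.l + 1 - u.j.val) % (g.d.l + 1)
  let k' := (g.d.m + 1 - g.d.r ^ j' * u.k.val % (g.d.m + 1)) % (g.d.m + 1)
  let A := g.d.mat k' j'
  { x := Fin.ofNat _ (g.d.a + 1 -
      (A.1.1 * u.x.val + A.1.2.1 * u.y.val + A.1.2.2 * u.z.val) % (g.d.a + 1))
    y := Fin.ofNat _ (g.d.b + 1 -
      (A.2.1.1 * u.x.val + A.2.1.2.1 * u.y.val + A.2.1.2.2 * u.z.val) % (g.d.b + 1))
    z := Fin.ofNat _ (g.d.c + 1 -
      (A.2.2.1 * u.x.val + A.2.2.2.1 * u.y.val + A.2.2.2.2 * u.z.val) % (g.d.c + 1))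
    k := Fin.ofNat _ k'
    j := Fin.ofNat _ j' }

theorem fin_ext {n : ℕ} {u v : Fin (n + 1)} (h : (u.val : ZMod (n + 1)) = (v.val : ZMod (n + 1))) :
    u = v := by
  rw [ZMod.natCast_eq_natCast_iff'] at h
  exact Fin.ext (by rwa [Nat.mod_eq_of_lt u.isLt, Nat.mod_eq_of_lt v.isLt] at h)

theorem cast_ofNat {n : ℕ} (x : ℕ) :
    ((Fin.ofNat (n + 1) x).val : ZMod (n + 1)) = (x : ZMod (n + 1)) := by
  rw [Fin.val_ofNat, ZMod.natCast_mod]

theorem cast_mul_mod {E D q : ℕ} (h : q * D % E = 0) (x : ℕ) :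
    (q : ZMod E) * ((x % D : ℕ) : ZMod E) = (q : ZMod E) * (x : ZMod E) := by
  conv_rhs => rw [← Nat.mod_add_div x D]
  have h0 : (q : ZMod E) * (D : ZMod E) = 0 := by
    rw [← Nat.cast_mul, ZMod.natCast_eq_zero_iff]; exact Nat.dvd_of_mod_eq_zero h
  push_cast
  linear_combination -((x / D : ℕ) : ZMod E) * h0

theorem rowEq_cast {E : ℕ} {u v : Row} (h : Dat.rowEq E u v = true) :
    (u.1 : ZMod E) = v.1 ∧ (u.2.1 : ZMod E) = v.2.1 ∧ (u.2.2 : ZMod E) = v.2.2 := by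
  simp only [Dat.rowEq, Bool.and_eq_true, beq_iff_eq] at h
  simp only [ZMod.natCast_eq_natCast_iff']
  exact ⟨h.1.1, h.1.2, h.2⟩

variable {g : Good}

theorem valid_spec (g : Good) :
    g.d.r ^ (g.d.l + 1) % (g.d.m + 1) = 1 % (g.d.m + 1) ∧
    (Dat.rowEq (g.d.a + 1) (g.d.mat 0 0).1 (1, 0, 0) = true ∧
     Dat.rowEq (g.d.b + 1) (g.d.mat 0 0).2.1 (0, 1, 0) = true ∧
     Dat.rowEq (g.d.c + 1) (g.d.mat 0 0).2.2 (0, 0, 1) = true) ∧
    ∀ k < g.d.m + 1, ∀ j < g.d.l + 1,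
      (g.d.rowOK (g.d.a + 1) (g.d.mat k j).1 = true ∧ g.d.rowOK (g.d.b + 1) (g.d.mat k j).2.1 = true ∧
       g.d.rowOK (g.d.c + 1) (g.d.mat k j).2.2 = true) ∧
      ∀ k' < g.d.m + 1, ∀ j' < g.d.l + 1,
        let B := g.d.mat k' j'
        let C := g.d.mat ((k + g.d.r ^ j * k') % (g.d.m + 1)) ((j + j') % (g.d.l + 1))
        Dat.rowEq (g.d.a + 1) (Dat.comp (g.d.mat k j).1 B) C.1 = true ∧
        Dat.rowEq (g.d.b + 1) (Dat.comp (g.d.mat k j).2.1 B) C.2.1 = true ∧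
        Dat.rowEq (g.d.c + 1) (Dat.comp (g.d.mat k j).2.2 B) C.2.2 = true := by
  have h := g.ok
  simp only [Dat.valid, Bool.and_eq_true, List.all_eq_true, List.mem_range, beq_iff_eq] at h
  refine ⟨h.1.1.1.1, ⟨h.1.1.1.2, h.1.1.2, h.1.2⟩, fun k hk j hj => ?_⟩
  have h' := h.2 k hk j hj
  refine ⟨⟨h'.1.1.1, h'.1.1.2, h'.1.2⟩, fun k' hk' j' hj' => ?_⟩
  have h'' := h'.2 k' hk' j' hj'
  exact ⟨h''.1.1, h''.1.2, h''.2⟩

theorem rowOK_spec {d : Dat} {E : ℕ} {q : Row} (h : d.rowOK E q = true) :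
    q.1 * (d.a + 1) % E = 0 ∧ q.2.1 * (d.b + 1) % E = 0 ∧ q.2.2 * (d.c + 1) % E = 0 := by
  simp only [Dat.rowOK, Bool.and_eq_true, beq_iff_eq] at h
  exact ⟨h.1.1, h.1.2, h.2⟩

theorem twist_mod (g : Good) (j : ℕ) :
    ((g.d.r : ZMod (g.d.m + 1))) ^ (j % (g.d.l + 1)) = (g.d.r : ZMod (g.d.m + 1)) ^ j := by
  have h : (g.d.r : ZMod (g.d.m + 1)) ^ (g.d.l + 1) = 1 := by
    have := (valid_spec g).1
    rw [← ZMod.natCast_eq_natCast_iff', Nat.cast_pow, Nat.cast_one] at this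
    exact this
  conv_rhs => rw [← Nat.mod_add_div j (g.d.l + 1), pow_add, pow_mul, h, one_pow, mul_one]

theorem gmul_assoc (u v w : El g) : gmul (gmul u v) w = gmul u (gmul v w) := by
  obtain ⟨⟨ha, hb, hc⟩, hcomp⟩ := (valid_spec g).2.2 u.k.val u.k.isLt u.j.val u.j.isLt
  obtain ⟨ea, eb, ec⟩ := hcomp v.k.val v.k.isLt v.j.val v.j.isLt
  obtain ⟨ha1, ha2, ha3⟩ := rowOK_spec ha
  obtain ⟨hb1, hb2, hb3⟩ := rowOK_spec hb
  obtain ⟨hc1, hc2, hc3⟩ := rowOK_spec hc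
  obtain ⟨a1, a2, a3⟩ := rowEq_cast ea
  obtain ⟨b1, b2, b3⟩ := rowEq_cast eb
  obtain ⟨c1, c2, c3⟩ := rowEq_cast ec
  simp only [Dat.comp, Nat.cast_add, Nat.cast_mul] at a1 a2 a3 b1 b2 b3 c1 c2 c3
  apply El.ext <;> apply fin_ext
  · simp only [gmul, cast_ofNat, Nat.cast_add, Nat.cast_mul]
    simp only [Fin.val_ofNat, cast_mul_mod ha1, cast_mul_mod ha2, cast_mul_mod ha3, Nat.cast_add,
      Nat.cast_mul, ZMod.natCast_mod]
    linear_combination -(w.x.val : ZMod (g.d.a + 1)) * a1 - (w.y.val : ZMod (g.d.a + 1)) * a2 -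
      (w.z.val : ZMod (g.d.a + 1)) * a3
  · simp only [gmul, cast_ofNat, Nat.cast_add, Nat.cast_mul]
    simp only [Fin.val_ofNat, cast_mul_mod hb1, cast_mul_mod hb2, cast_mul_mod hb3, Nat.cast_add,
      Nat.cast_mul, ZMod.natCast_mod]
    linear_combination -(w.x.val : ZMod (g.d.b + 1)) * b1 - (w.y.val : ZMod (g.d.b + 1)) * b2 -
      (w.z.val : ZMod (g.d.b + 1)) * b3
  · simp only [gmul, cast_ofNat, Nat.cast_add, Nat.cast_mul]
    simp only [Fin.val_ofNat, cast_mul_mod hc1, cast_mul_mod hc2, cast_mul_mod hc3, Nat.cast_add,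
      Nat.cast_mul, ZMod.natCast_mod]
    linear_combination -(w.x.val : ZMod (g.d.c + 1)) * c1 - (w.y.val : ZMod (g.d.c + 1)) * c2 -
      (w.z.val : ZMod (g.d.c + 1)) * c3
  · simp only [gmul, cast_ofNat, Nat.cast_add, Nat.cast_mul, Nat.cast_pow]
    simp only [Fin.val_ofNat, ZMod.natCast_mod, Nat.cast_add, Nat.cast_mul, Nat.cast_pow,
      twist_mod, pow_add]
    ring
  · simp only [gmul, cast_ofNat, Nat.cast_add]
    ring

theorem gone_gmul (u : El g) : gmul (gone g) u = u := by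
  obtain ⟨ea, eb, ec⟩ := (valid_spec g).2.1
  obtain ⟨a1, a2, a3⟩ := rowEq_cast ea
  obtain ⟨b1, b2, b3⟩ := rowEq_cast eb
  obtain ⟨c1, c2, c3⟩ := rowEq_cast ec
  simp only [Nat.cast_one, Nat.cast_zero] at a1 a2 a3 b1 b2 b3 c1 c2 c3
  apply El.ext <;> apply fin_ext <;>
    simp [gmul, gone, a1, a2, a3, b1, b2, b3, c1, c2, c3]

theorem ginv_gmul (u : El g) : gmul (ginv u) u = gone g := by
  apply El.ext <;> apply fin_ext
  all_goals
    simp only [gmul, ginv, gone, cast_ofNat, Fin.val_ofNat, Nat.cast_add, Nat.cast_mul,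
      ZMod.natCast_mod, Nat.mod_mod, Fin.val_zero, Nat.cast_zero]
    rw [Nat.cast_sub (by first | exact (Nat.mod_lt _ (Nat.succ_pos _)).le | exact u.j.isLt.le),
      ZMod.natCast_self]
    try simp only [ZMod.natCast_mod, Nat.cast_add, Nat.cast_mul, Nat.cast_pow]
    ring

instance instMulEl (g : Good) : Mul (El g) := ⟨gmul⟩
instance instOneEl (g : Good) : One (El g) := ⟨gone g⟩
instance instInvEl (g : Good) : Inv (El g) := ⟨ginv⟩

instance instGroupEl (g : Good) : Group (El g) :=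
  Group.ofLeftAxioms gmul_assoc gone_gmul ginv_gmul

/-- The list of all elements. -/
def elems (g : Good) : List (El g) :=
  (List.finRange _).flatMap fun x => (List.finRange _).flatMap fun y =>
    (List.finRange _).flatMap fun z => (List.finRange _).flatMap fun k =>
      (List.finRange _).map fun j => ⟨x, y, z, k, j⟩

theorem mem_elems (u : El g) : u ∈ elems g := by
  simp only [elems, List.mem_flatMap, List.mem_map, List.mem_finRange, true_and]
  exact ⟨_, _, _, _, _, rfl⟩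

instance instFiniteEl (g : Good) : Finite (El g) :=
  Finite.of_injective (fun u => (u.x, u.y, u.z, u.k, u.j)) (fun u v h => by
    simp only [Prod.mk.injEq] at h
    exact El.ext h.1 h.2.1 h.2.2.1 h.2.2.2.1 h.2.2.2.2)

theorem mul_j (u v : El g) :
    ((u * v).j.val : ZMod (g.d.l + 1)) = u.j.val + v.j.val := by
  change ((gmul u v).j.val : ZMod (g.d.l + 1)) = _
  simp [gmul]

/-- Elements with trivial last coordinate. -/
def subJ (g : Good) : Subgroup (El g) where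
  carrier := {u | u.j = 0}
  mul_mem' {u v} hu hv := by
    change (gmul u v).j = 0
    apply fin_ext
    simp [gmul, show u.j = 0 from hu, show v.j = 0 from hv]
  one_mem' := rfl
  inv_mem' {u} hu := by
    change (ginv u).j = 0
    apply fin_ext
    simp [ginv, show u.j = 0 from hu]

/-- Elements with trivial last two coordinates. -/
def subK (g : Good) : Subgroup (El g) where
  carrier := {u | u.k = 0 ∧ u.j = 0}
  mul_mem' {u v} hu hv := by
    obtain ⟨h1, h2⟩ : u.k = 0 ∧ u.j = 0 := hu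
    obtain ⟨h3, h4⟩ : v.k = 0 ∧ v.j = 0 := hv
    change (gmul u v).k = 0 ∧ (gmul u v).j = 0
    constructor <;> apply fin_ext <;> simp [gmul, h1, h2, h3, h4]
  one_mem' := ⟨rfl, rfl⟩
  inv_mem' {u} hu := by
    obtain ⟨h1, h2⟩ : u.k = 0 ∧ u.j = 0 := hu
    change (ginv u).k = 0 ∧ (ginv u).j = 0
    constructor <;> apply fin_ext <;> simp [ginv, h1, h2]

theorem derivedSeries_three (g : Good) : derivedSeries (El g) 3 = ⊥ := by
  have h1 : derivedSeries (El g) 1 ≤ subJ g := by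
    rw [derivedSeries_succ, Subgroup.commutator_le]
    intro u _ v _
    change (u * v * u⁻¹ * v⁻¹).j = 0
    apply fin_ext
    have hu := mul_j u u⁻¹
    have hv := mul_j v v⁻¹
    rw [mul_inv_cancel] at hu hv
    have h0 : ((1 : El g).j.val : ZMod (g.d.l + 1)) = 0 := by simp [show (1 : El g).j = 0 from rfl]
    rw [h0] at hu hv
    rw [mul_j, mul_j, mul_j]
    simp only [Fin.val_zero, Nat.cast_zero]
    linear_combination -hu - hv
  have h2 : derivedSeries (El g) 2 ≤ subK g := by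
    rw [derivedSeries_succ, Subgroup.commutator_le]
    intro u hu v hv
    have hu := h1 hu
    have hv := h1 hv
    have hc : u * v * u⁻¹ * v⁻¹ ∈ subJ g :=
      mul_mem (mul_mem (mul_mem hu hv) (inv_mem hu)) (inv_mem hv)
    refine ⟨?_, hc⟩
    have key : ∀ p q : El g, p.j = 0 →
        ((p * q).k.val : ZMod (g.d.m + 1)) = p.k.val + q.k.val := by
      intro p q hp
      change ((gmul p q).k.val : ZMod (g.d.m + 1)) = _
      simp [gmul, hp]
    change (u * v * u⁻¹ * v⁻¹).k = 0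
    apply fin_ext
    have k1 := key u u⁻¹ hu
    have k2 := key v v⁻¹ hv
    rw [mul_inv_cancel] at k1 k2
    have h0 : ((1 : El g).k.val : ZMod (g.d.m + 1)) = 0 := by simp [show (1 : El g).k = 0 from rfl]
    rw [h0] at k1 k2
    rw [key _ _ (mul_mem (mul_mem hu hv) (inv_mem hu) : u * v * u⁻¹ ∈ subJ g),
      key _ _ (mul_mem hu hv : u * v ∈ subJ g), key _ _ hu]
    simp only [Fin.val_zero, Nat.cast_zero]
    linear_combination -k1 - k2
  rw [derivedSeries_succ, eq_bot_iff, Subgroup.commutator_le]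
  intro u hu v hv
  rw [Subgroup.mem_bot, commutatorElement_eq_one_iff_mul_comm]
  obtain ⟨u1, u2⟩ : u.k = 0 ∧ u.j = 0 := h2 hu
  obtain ⟨v1, v2⟩ : v.k = 0 ∧ v.j = 0 := h2 hv
  obtain ⟨ea, eb, ec⟩ := (valid_spec g).2.1
  obtain ⟨a1, a2, a3⟩ := rowEq_cast ea
  obtain ⟨b1, b2, b3⟩ := rowEq_cast eb
  obtain ⟨c1, c2, c3⟩ := rowEq_cast ec
  simp only [Nat.cast_one, Nat.cast_zero] at a1 a2 a3 b1 b2 b3 c1 c2 c3
  change gmul u v = gmul v u
  apply El.ext <;> apply fin_ext <;>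
    simp [gmul, u1, u2, v1, v2, a1, a2, a3, b1, b2, b3, c1, c2, c3, add_comm]

end Cfsg.Agent.FGS4.OrderType
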